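import Cfsg.Prelude.Def_LieTypeDatum

/-! Creates the on-demand lemmas of the recursive definitions of `Def_LieTypeDatum` in one place, so that
two library files never hold two copies. Import this file wherever those definitions are used. -/

set_option linter.all false

namespace CfsgEqn

theorem warm_LieTypeDatum : True := by
  have := @Cfsg.IsOfLieType.eq_def.{0}
  have := @Cfsg.IsOfLieType.eq_1.{0}
  have := @Cfsg.IsOfLieType.eq_2.{0}
  have := @Cfsg.IsOfLieType.eq_3.{0}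
  have := @Cfsg.IsOfLieType.eq_4.{0}
  have := @Cfsg.IsOfLieType.eq_5.{0}
  have := @Cfsg.IsOfLieType.eq_6.{0}
  have := @Cfsg.IsOfLieType.eq_7.{0}
  have := @Cfsg.IsOfLieType.eq_8.{0}
  have := @Cfsg.IsOfLieType.eq_9.{0}
  have := @Cfsg.IsOfLieType.eq_10.{0}
  have := @Cfsg.IsOfLieType.eq_11.{0}
  have := @Cfsg.IsOfLieType.eq_12.{0}
  have := @Cfsg.IsOfLieType.eq_13.{0}
  have := @Cfsg.IsOfLieType.eq_14.{0}
  have := @Cfsg.IsOfLieType.eq_15.{0}
  have := @Cfsg.IsOfLieType.eq_16.{0}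
  have := @Cfsg.IsOfLieType.fun_cases
  have := @Cfsg.IsOfLieType.fun_cases_unfolding.{0}
  have := @Cfsg.IsOfLieType.congr_simp.{0}
  have := @Cfsg.IsInnerDiagonalAutOfType.eq_def.{0}
  have := @Cfsg.IsInnerDiagonalAutOfType.eq_1.{0}
  have := @Cfsg.IsInnerDiagonalAutOfType.eq_2.{0}
  have := @Cfsg.IsInnerDiagonalAutOfType.eq_3.{0}
  have := @Cfsg.IsInnerDiagonalAutOfType.eq_4.{0}
  have := @Cfsg.IsInnerDiagonalAutOfType.eq_5.{0}
  have := @Cfsg.IsInnerDiagonalAutOfType.eq_6.{0}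
  have := @Cfsg.IsInnerDiagonalAutOfType.eq_7.{0}
  have := @Cfsg.IsInnerDiagonalAutOfType.eq_8.{0}
  have := @Cfsg.IsInnerDiagonalAutOfType.eq_9.{0}
  have := @Cfsg.IsInnerDiagonalAutOfType.eq_10.{0}
  have := @Cfsg.IsInnerDiagonalAutOfType.eq_11.{0}
  have := @Cfsg.IsInnerDiagonalAutOfType.eq_12.{0}
  have := @Cfsg.IsInnerDiagonalAutOfType.eq_13.{0}
  have := @Cfsg.IsInnerDiagonalAutOfType.eq_14.{0}
  have := @Cfsg.IsInnerDiagonalAutOfType.eq_15.{0}
  have := @Cfsg.IsInnerDiagonalAutOfType.eq_16.{0}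
  have := @Cfsg.IsInnerDiagonalAutOfType.fun_cases
  have := @Cfsg.IsInnerDiagonalAutOfType.fun_cases_unfolding.{0}
  have := @Cfsg.IsInnerDiagonalAutOfType.congr_simp.{0}
  trivial

end CfsgEqn
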