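import Cfsg.Prelude.Def_StandardType

/-! Creates the on-demand lemmas of the recursive definitions of `Def_StandardType` in one place, so that
two library files never hold two copies. Import this file wherever those definitions are used. -/

set_option linter.all false

namespace CfsgEqn

theorem warm_StandardType : True := by
  have := @Cfsg.LieFamilyTwo.twisted.eq_def
  have := @Cfsg.LieFamilyTwo.twisted.eq_1
  have := @Cfsg.LieFamilyTwo.twisted.eq_2
  have := @Cfsg.LieFamilyTwo.twisted.eq_3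
  have := @Cfsg.LieFamilyTwo.twisted.eq_4
  have := @Cfsg.LieFamilyTwo.twisted.eq_5
  have := @Cfsg.LieFamilyTwo.twisted.eq_6
  have := @Cfsg.LieFamilyTwo.twisted.eq_7
  have := @Cfsg.LieFamilyTwo.twisted.fun_cases
  have := @Cfsg.LieFamilyTwo.twisted.fun_cases_unfolding
  have := @Cfsg.LieFamilyTwo.twisted.congr_simp
  have := @Cfsg.IsChevalleyGroupOfType.eq_def.{0}
  have := @Cfsg.IsChevalleyGroupOfType.eq_1.{0}
  have := @Cfsg.IsChevalleyGroupOfType.eq_2.{0}
  have := @Cfsg.IsChevalleyGroupOfType.eq_3.{0}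
  have := @Cfsg.IsChevalleyGroupOfType.eq_4.{0}
  have := @Cfsg.IsChevalleyGroupOfType.eq_5.{0}
  have := @Cfsg.IsChevalleyGroupOfType.eq_6.{0}
  have := @Cfsg.IsChevalleyGroupOfType.eq_7.{0}
  have := @Cfsg.IsChevalleyGroupOfType.eq_8.{0}
  have := @Cfsg.IsChevalleyGroupOfType.eq_9.{0}
  have := @Cfsg.IsChevalleyGroupOfType.eq_10.{0}
  have := @Cfsg.IsChevalleyGroupOfType.eq_11.{0}
  have := @Cfsg.IsChevalleyGroupOfType.eq_12.{0}
  have := @Cfsg.IsChevalleyGroupOfType.eq_13.{0}
  have := @Cfsg.IsChevalleyGroupOfType.eq_14.{0}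
  have := @Cfsg.IsChevalleyGroupOfType.fun_cases
  have := @Cfsg.IsChevalleyGroupOfType.fun_cases_unfolding.{0}
  have := @Cfsg.IsChevalleyGroupOfType.congr_simp.{0}
  trivial

end CfsgEqn
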